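import Groth.Agent.Sga7.H732.Abel
import Groth.Agent.Picfga.ChiBC
import Groth.Agent.AbDual.K732.Transp

/-!
# Transport of the Jacobian along an isomorphism of curves

`f : C ⟶ Spec k`, `f' : C' ⟶ Spec k`, `α : C ⟶ C'` an isomorphism over `k`.

* `chiAt_bm`, `deg_bm`: degrees of classes on `C'_T` pulled back to `C_T`;
* `isJac_bm`: a Jacobian of `C'` (rigidified form) is a Jacobian of `C`.
-/

set_option autoImplicit false
universe u
open CategoryTheory CategoryTheory.Limits AlgebraicGeometry MonObj MonoidalCategory CartesianMonoidalCategory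

namespace K507.CurveIso

open Groth.Agent Groth.Agent.Grpsch.PicGrp Groth.Agent.Fga.RigGrp Groth.Agent.Sga7.H732.Hedge
open Groth.Agent.Sga7.H732 Groth.Agent.Fga.JacSurj Groth.Agent.Picfga.ChiDef Groth.Agent.Fga

variable {k : Type u} [Field k] {C C' : Scheme.{u}} {f : C ⟶ Spec (CommRingCat.of k)}
  {f' : C' ⟶ Spec (CommRingCat.of k)} (α : Over.mk f ⟶ Over.mk f') [IsIso α]

/-- `C_T ⟶ C'_T`. -/
noncomputable abbrev bm (T : Over (Spec (CommRingCat.of k))) : PicF.XT f T ⟶ PicF.XT f' T :=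
  AbDual.bcMap α T

theorem bm_bm_inv (T : Over (Spec (CommRingCat.of k))) :
    bm α T ≫ bm (inv α) T = 𝟙 (PicF.XT f T) := by
  have h := K732.Transp.bcMap_comp α (inv α) T
  rw [IsIso.hom_inv_id, K732.Transp.bcMap_id] at h
  exact h.symm

theorem bm_inv_bm (T : Over (Spec (CommRingCat.of k))) :
    bm (inv α) T ≫ bm α T = 𝟙 (PicF.XT f' T) := by
  have h := K732.Transp.bcMap_comp (inv α) α T
  rw [IsIso.inv_hom_id, K732.Transp.bcMap_id] at h
  exact h.symm

instance isIso_bm (T : Over (Spec (CommRingCat.of k))) : IsIso (bm α T) :=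
  ⟨bm (inv α) T, bm_bm_inv α T, bm_inv_bm α T⟩

omit [IsIso α] in
theorem bm_XTproj (T : Over (Spec (CommRingCat.of k))) : bm α T ≫ PicF.XTproj f' T = PicF.XTproj f T := by
  have h : AbDual.bcMap α T ≫ pullback.snd (Over.mk f').hom T.hom = pullback.snd (Over.mk f).hom T.hom := by
    rw [AbDual.bcMap, pullback.map, pullback.lift_snd, Category.comp_id]
  exact h

omit [IsIso α] in
theorem bm_fst (T : Over (Spec (CommRingCat.of k))) :
    bm α T ≫ pullback.fst f' T.hom = pullback.fst f T.hom ≫ α.left := by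
  have h : AbDual.bcMap α T ≫ pullback.fst (Over.mk f').hom T.hom = pullback.fst (Over.mk f).hom T.hom ≫ α.left := by
    rw [AbDual.bcMap, pullback.map, pullback.lift_fst]
  exact h

theorem chiK_bm [QuasiCompact f'] [QuasiSeparated f'] {K : Type u} [Field K]
    (t : Spec (CommRingCat.of K) ⟶ Spec (CommRingCat.of k)) (c : Pic (PicF.XT f' (Over.mk t))) :
    chiK f t (pull (bm α (Over.mk t)) c) = chiK f' t c := by
  obtain ⟨M, hM, rfl⟩ := exists_mk c
  rw [pull_mk, chiK_mk, chiK_mk]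
  let i1 := overK f t
  let i2 := overK f' t
  have hqc : QuasiCompact (PicF.XT f' (Over.mk t) ↘ Spec (CommRingCat.of K)) :=
    inferInstanceAs (QuasiCompact (pullback.snd f' t))
  have hqs : QuasiSeparated (PicF.XT f' (Over.mk t) ↘ Spec (CommRingCat.of K)) :=
    inferInstanceAs (QuasiSeparated (pullback.snd f' t))
  have c1 : CompactSpace (PicF.XT f' (Over.mk t)) := 
    QuasiCompact.compactSpace_of_compactSpace (PicF.XT f' (Over.mk t) ↘ Spec (CommRingCat.of K))
  have c2 : QuasiSeparatedSpace (PicF.XT f' (Over.mk t)) := 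
    quasiSeparatedSpace_of_quasiSeparated (PicF.XT f' (Over.mk t) ↘ Spec (CommRingCat.of K))
  have hpb : IsPullback (bm α (Over.mk t)) (PicF.XT f (Over.mk t) ↘ Spec (CommRingCat.of K))
      (PicF.XT f' (Over.mk t) ↘ Spec (CommRingCat.of K)) (𝟙 _) :=
    IsPullback.of_horiz_isIso ⟨(bm_XTproj α (Over.mk t)).trans (Category.comp_id _).symm⟩
  exact Groth.Agent.Picfga.ChiBC.eulerCharLE_pullback K (PicF.XT f' (Over.mk t)) K (PicF.XT f (Over.mk t))
    (bm α (Over.mk t)) (𝟙 _) hpb M (Groth.Agent.Ega2.QCohLocal.isQCoh_of_isInvertible hM) 1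

theorem chiAt_bm [QuasiCompact f'] [QuasiSeparated f'] (T : Over (Spec (CommRingCat.of k))) (τ : T.left)
    (c : Pic (PicF.XT f' T)) : chiAt f T τ (pull (bm α T) c) = chiAt f' T τ c := by
  have h1 : pull (PicF.XTmap f (ofHom T (fsr T.left τ))) (pull (bm α T) c) =
      pull (bm α (Over.mk (fsr T.left τ ≫ T.hom))) (pull (PicF.XTmap f' (ofHom T (fsr T.left τ))) c) :=
    (K732.Transp.pull_bcMap_XTmap α (ofHom T (fsr T.left τ)) c).symm
  rw [chiAt, chiPt, chiAt, chiPt, h1]
  exact chiK_bm α _ _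

/-- Classes of degree zero on the fibres. -/
theorem deg_bm [QuasiCompact f] [IsSeparated f] [QuasiCompact f'] [IsSeparated f']
    (T : Over (Spec (CommRingCat.of k))) (c : Pic (PicF.XT f' T))
    (hc : FGA.HasFibreDegreeZeroCl f' T (toCl c)) : FGA.HasFibreDegreeZeroCl f T (toCl (pull (bm α T) c)) := by
  rw [Abel.deg_iff] at hc ⊢
  intro τ
  rw [chiAt_bm, hc τ, ← chiAt_bm α, map_one]

variable {σ : Spec (CommRingCat.of k) ⟶ C} {hσ : σ ≫ f = 𝟙 (Spec (CommRingCat.of k))}
  {σ' : Spec (CommRingCat.of k) ⟶ C'} {hσ' : σ' ≫ f' = 𝟙 (Spec (CommRingCat.of k))} (hσα : σ ≫ α.left = σ')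

omit [IsIso α] in
include hσα in
theorem secT_bm (T : Over (Spec (CommRingCat.of k))) :
    PicF.secT f σ hσ T ≫ bm α T = PicF.secT f' σ' hσ' T := by
  apply pullback.hom_ext
  · rw [Category.assoc, bm_fst, ← Category.assoc, secT_fst, Category.assoc, hσα]
    exact (secT_fst f' σ' hσ' T).symm
  · rw [Category.assoc]
    refine (congrArg (fun z => PicF.secT f σ hσ T ≫ z) (bm_XTproj α T)).trans ?_
    refine (secT_XTproj f σ hσ T).trans ?_
    exact (secT_XTproj f' σ' hσ' T).symm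

omit [IsIso α] in
include hσα in
theorem mem_bm {T : Over (Spec (CommRingCat.of k))} {c : Pic (PicF.XT f' T)} (hc : c ∈ Rg f' σ' hσ' T) :
    pull (bm α T) c ∈ Rg f σ hσ T := by
  rw [mem_Rg, ← pull_comp, secT_bm α hσα (hσ' := hσ')]
  exact hc

omit [IsIso α] in
include hσα in
theorem norm_bm (T : Over (Spec (CommRingCat.of k))) (c : Pic (PicF.XT f' T)) :
    norm f σ hσ T (pull (bm α T) c) = pull (bm α T) (norm f' σ' hσ' T c) := by
  rw [norm_apply, norm_apply, map_div, ← pull_comp (PicF.secT f σ hσ T), secT_bm α hσα (hσ' := hσ'),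
    ← pull_comp (bm α T), bm_XTproj]

theorem bm_inv_sec (hσα : σ ≫ α.left = σ') : σ' ≫ (inv α).left = σ := by
  rw [← hσα, Category.assoc, ← Over.comp_left, IsIso.hom_inv_id]
  exact Category.comp_id _

include hσα in
/-- **Transport of the Jacobian.** -/
theorem isJac_bm [QuasiCompact f] [IsSeparated f] [QuasiCompact f'] [IsSeparated f']
    {J' : Over (Spec (CommRingCat.of k))} [GrpObj J'] {ξ' : Pic (PicF.XT f' J')}
    (h : IsJac f' σ' hσ' J' ξ') : IsJac f σ hσ J' (pull (bm α J') ξ') where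
  mem := mem_bm α hσα h.mem
  deg := deg_bm α J' ξ' h.deg
  mul := by
    intro T g g'
    have h1 := h.mul g g'
    have h2 : ∀ q : T ⟶ J', pull (PicF.XTmap f q) (pull (bm α J') ξ') = pull (bm α T) (pull (PicF.XTmap f' q) ξ') :=
      fun q => (K732.Transp.pull_bcMap_XTmap α q ξ').symm
    rw [h2, h2, h2, h1, map_mul]
  univ := by
    intro T c hc hd
    have h2 : ∀ q : T ⟶ J', pull (PicF.XTmap f q) (pull (bm α J') ξ') = pull (bm α T) (pull (PicF.XTmap f' q) ξ') :=
      fun q => (K732.Transp.pull_bcMap_XTmap α q ξ').symm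
    obtain ⟨g, hg, hu⟩ := h.univ T (pull (bm (inv α) T) c) (mem_bm (inv α) (bm_inv_sec α hσα) hc)
      (deg_bm (inv α) T c hd)
    refine ⟨g, ?_, fun g' hg' => hu g' ?_⟩
    · change pull (PicF.XTmap f g) (pull (bm α J') ξ') = c
      rw [h2, hg, ← pull_comp, bm_bm_inv, pull_id]
    · have hg2 : pull (PicF.XTmap f g') (pull (bm α J') ξ') = c := hg'
      change pull (PicF.XTmap f' g') ξ' = pull (bm (inv α) T) c
      rw [← hg2, h2, ← pull_comp, bm_inv_bm, pull_id]

end K507.CurveIso
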