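import Groth.Agent.AgPol.K507.ThetaIso
import Groth.Agent.AbDual.K732.PullLam
import Groth.Agent.AbVar.K521.Lam
import Groth.Agent.JacVar.K532.ThetaIdeal
import Groth.Agent.JacVar.K532.CGroup

/-!
# The canonical polarisations of the Jacobians of two isomorphic curves

* `mumCl_transl`: the Mumford class is invariant under translations;
* `exists_transpose`: an isomorphism has a transpose, which is an isomorphism of groups;
* `mk_theta_pull`: theta line bundles and isomorphisms carrying the theta loci to each other;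
* `lam_iso`: the isomorphism of Jacobians respects the homomorphisms attached to the theta line bundles.
-/

set_option autoImplicit false
set_option linter.unusedSectionVars false
universe u
open CategoryTheory CategoryTheory.Limits AlgebraicGeometry MonoidalCategory CartesianMonoidalCategory
open scoped MonObj

namespace K507.LamIso

open Groth.Agent Groth.Agent.Grpsch.PicGrp Groth.Agent.Fga.RigGrp Groth.Agent.Sga7.H732.Hedge
open Groth.Agent.Grpsch.Cube Groth.Agent.Divis.EffCartier Groth.Agent.Fga.JacFactor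
open K732.PicZero K732.Prim K732.Dual K732.CubeSec K732.Transp K814.MumHom
open K528.MumZero (mumCl)

section transl

variable {k : Type u} [Field k] {A : Over (Spec (CommRingCat.of k))} [GrpObj A] [IsProper A.hom]
  [GeometricallyIntegral A.hom]

omit [IsProper A.hom] [GeometricallyIntegral A.hom] in
theorem comp_transl {T : Over (Spec (CommRingCat.of k))} (a : T ⟶ A)
    (ν : 𝟙_ (Over (Spec (CommRingCat.of k))) ⟶ A) : a ≫ Jac.transl A ν = a * (toUnit T ≫ ν) := by
  rw [Jac.transl, MonObj.comp_mul, Category.comp_id, ← Category.assoc,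
    toUnit_unique (a ≫ toUnit A) (toUnit T)]

omit [IsProper A.hom] [GeometricallyIntegral A.hom] in
theorem pl_const {T : Over (Spec (CommRingCat.of k))} (ν : 𝟙_ (Over (Spec (CommRingCat.of k))) ⟶ A)
    (c : Pic A.left) : pl (toUnit T ≫ ν) c = 1 := by
  rw [pl_comp]
  have h : (pl ν c : Pic (𝟙_ (Over (Spec (CommRingCat.of k)))).left) = 1 := by
    exact pic_spec_local k _
  rw [h, map_one]

/-- The Mumford class is invariant under translations. -/
theorem mumCl_transl (c : Pic A.left) (ν : 𝟙_ (Over (Spec (CommRingCat.of k))) ⟶ A) :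
    mumCl A (pull (Jac.transl A ν).left c) = mumCl A c := by
  refine ext_ev fun W a b => ?_
  rw [ev_mum, ev_mum, ← pull_comp, ← pull_comp, ← pull_comp, ← Over.comp_left, ← Over.comp_left,
    ← Over.comp_left, comp_transl, comp_transl, comp_transl]
  have h := K521.Lam.lam_mul_right c a b (toUnit W ≫ ν)
  rw [K521.Lam.lam, K521.Lam.lam, K521.Lam.lam, pl_const, inv_one, _root_.mul_one] at h
  have h1 : pull (a * b * (toUnit W ≫ ν)).left c = pl (a * (b * (toUnit W ≫ ν))) c := by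
    rw [_root_.mul_assoc]
  rw [h1]
  have h2 : pl (a * (b * (toUnit W ≫ ν))) c =
      pl (a * b) c * (pl a c)⁻¹ * (pl b c)⁻¹ * (pl (a * (toUnit W ≫ ν)) c * (pl a c)⁻¹) * pl (b * (toUnit W ≫ ν)) c *
        pl a c := by
    rw [← h]
    cgroup
  rw [h2]
  change _ * (pl (a * (toUnit W ≫ ν)) c)⁻¹ * (pl (b * (toUnit W ≫ ν)) c)⁻¹ =
    pl (a * b) c * (pl a c)⁻¹ * (pl b c)⁻¹
  cgroup

end transl

section transpose

variable {S : Scheme.{u}} {A At B Bt : Over S} [GrpObj A] [GrpObj At] [GrpObj B] [GrpObj Bt]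
  {φA : ∀ T : Over S, PicF.Cl (PicF.XT A.hom T) → (T ⟶ At)}
  {φB : ∀ T : Over S, PicF.Cl (PicF.XT B.hom T) → (T ⟶ Bt)}

/-- The transpose of an isomorphism. -/
theorem exists_transpose (hA : AbDual.IsDualAV Scheme.fppfPrecoverage A At φA)
    (hB : AbDual.IsDualAV Scheme.fppfPrecoverage B Bt φB)
    (hFA : ∀ T : Over S, Function.Bijective (PicF.XTproj A.hom T).appTop)
    (hFB : ∀ T : Over S, Function.Bijective (PicF.XTproj B.hom T).appTop) (e : A ≅ B) :
    ∃ (et : Bt ⟶ At) (_ : IsMonHom et), IsIso et ∧ AbDual.IsTranspose e.hom φA φB et := by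
  obtain ⟨et, het⟩ := exists_isTranspose hA hB hFB e.hom
  obtain ⟨ei, hei⟩ := exists_isTranspose hB hA hFA e.inv
  refine ⟨et, isMonHom_of_isTranspose hA hB hFB het, ⟨ei, ?_, ?_⟩, het⟩
  · have h1 := isTranspose_comp hei het
    rw [e.inv_hom_id] at h1
    exact isTranspose_unique hB hFB h1 isTranspose_id
  · have h1 := isTranspose_comp het hei
    rw [e.hom_inv_id] at h1
    exact isTranspose_unique hA hFA h1 isTranspose_id

end transpose

section theta

variable {k : Type u} [Field k] {C C' : Scheme.{u}} [C.Over (Spec (CommRingCat.of k))]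
  [C'.Over (Spec (CommRingCat.of k))]
  {J J' : Over (Spec (CommRingCat.of k))}
  {ψ : (ModFun.PicDeg (C ↘ Spec (CommRingCat.of k)) 0).Hom ⊤ J}
  {ψ' : (ModFun.PicDeg (C' ↘ Spec (CommRingCat.of k)) 0).Hom ⊤ J'}

theorem mk_theta_pull {N : C.Modules} {Θ : J.left.Modules}
    (hΘ : Jac.IsThetaLB (C ↘ Spec (CommRingCat.of k)) 0 ψ N Θ) {N' : C'.Modules} {Θ' : J'.left.Modules}
    (hΘ' : Jac.IsThetaLB (C' ↘ Spec (CommRingCat.of k)) 0 ψ' N' Θ') (b : J ≅ J')
    (h : Jac.thetaLocus (C ↘ Spec (CommRingCat.of k)) 0 ψ N =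
      b.hom.left.base ⁻¹' Jac.thetaLocus (C' ↘ Spec (CommRingCat.of k)) 0 ψ' N') :
    mk Θ hΘ.1 = pull b.hom.left (mk Θ' hΘ'.1) := by
  have hiso : IsIso b.hom.left := inferInstanceAs (IsIso ((Over.forget _).map b.hom))
  have i1 : b.hom.left ≫ b.inv.left = 𝟙 _ := by rw [← Over.comp_left, b.hom_inv_id]; rfl
  have i2 : b.inv.left ≫ b.hom.left = 𝟙 _ := by rw [← Over.comp_left, b.inv_hom_id]; rfl
  obtain ⟨-, hLI⟩ := id hΘ
  obtain ⟨e⟩ := id hLI
  have hI := Fga.IntAdd.isInvertible_of_tensor e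
  have hE1 := Dix.IdealModCartier.isEffCartierIdeal_of_isInvertible hI
  have h2 : mk Θ hΘ.1 = (dcl _ hE1)⁻¹ := Models.H65.PicDeg.mk_of_isInverseOf hΘ.1 hI hLI
  obtain ⟨-, hLI'⟩ := id hΘ'
  obtain ⟨e'⟩ := id hLI'
  have hI' := Fga.IntAdd.isInvertible_of_tensor e'
  have hE1' := Dix.IdealModCartier.isEffCartierIdeal_of_isInvertible hI'
  have h2' : mk Θ' hΘ'.1 = (dcl _ hE1')⁻¹ := Models.H65.PicDeg.mk_of_isInverseOf hΘ'.1 hI' hLI'
  have h3 := isEff_comap_flat hE1' b.hom.left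
  rw [h2, h2', map_inv, K532.ThetaIdeal.pull_dcl b.hom.left hE1' h3]
  congr 1
  apply dcl_congr
  rw [K532.ThetaIdeal.comap_vanishingIdeal_iso b.hom.left b.inv.left i1 i2]
  congr 1
  apply TopologicalSpace.Closeds.ext
  exact h

end theta

section main

variable {k : Type u} [Field k] [IsAlgClosed k] {C C' : Scheme.{u}} [C.Over (Spec (CommRingCat.of k))]
  [C'.Over (Spec (CommRingCat.of k))]
  [IsProper (C ↘ Spec (CommRingCat.of k))] [Smooth (C ↘ Spec (CommRingCat.of k))]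
  [GeometricallyConnected (C ↘ Spec (CommRingCat.of k))] (hdim : topologicalKrullDim ↥C = 1)
  [IsProper (C' ↘ Spec (CommRingCat.of k))] [Smooth (C' ↘ Spec (CommRingCat.of k))]
  [GeometricallyConnected (C' ↘ Spec (CommRingCat.of k))] (hdim' : topologicalKrullDim ↥C' = 1)
  {J J' : Over (Spec (CommRingCat.of k))} [GrpObj J] [GrpObj J']
  [IsProper J.hom] [Flat J.hom] [LocallyOfFinitePresentation J.hom] [GeometricallyIntegral J.hom]
  [IsProper J'.hom] [Flat J'.hom] [LocallyOfFinitePresentation J'.hom] [GeometricallyIntegral J'.hom]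
  {ψ : (ModFun.PicDeg (C ↘ Spec (CommRingCat.of k)) 0).Hom ⊤ J}
  {ψ' : (ModFun.PicDeg (C' ↘ Spec (CommRingCat.of k)) 0).Hom ⊤ J'}
  (α : Over.mk (C ↘ Spec (CommRingCat.of k)) ⟶ Over.mk (C' ↘ Spec (CommRingCat.of k))) [IsIso α]
  {Jt Jt' : Over (Spec (CommRingCat.of k))} [GrpObj Jt] [GrpObj Jt']
  {φ : AgPol.DualMap J Jt} {φ' : AgPol.DualMap J' Jt'}
  (hD : AbDual.IsDualAV Scheme.fppfPrecoverage J Jt φ) (hD' : AbDual.IsDualAV Scheme.fppfPrecoverage J' Jt' φ')

include hdim hdim' hD hD' α in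
/-- **An isomorphism of curves induces an isomorphism of the canonically polarised Jacobians.** -/
theorem lam_iso (hJ : Jac.IsJacobian (C ↘ Spec (CommRingCat.of k)) ⊤ J ψ)
    (hJ' : Jac.IsJacobian (C' ↘ Spec (CommRingCat.of k)) ⊤ J' ψ')
    (g : ℕ) (hg : Curv2.genus k C = g) (hg' : Curv2.genus k C' = g) (hg1 : 1 ≤ g)
    (N : C.Modules) (hN : PicF.IsInvertible N) (hNdeg : Curv2.deg k C N 1 = (g : ℤ) - 1)
    (N' : C'.Modules) (hN' : PicF.IsInvertible N') (hNdeg' : Curv2.deg k C' N' 1 = (g : ℤ) - 1)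
    (Θ : J.left.Modules) (hΘ : Jac.IsThetaLB (C ↘ Spec (CommRingCat.of k)) 0 ψ N Θ)
    (Θ' : J'.left.Modules) (hΘ' : Jac.IsThetaLB (C' ↘ Spec (CommRingCat.of k)) 0 ψ' N' Θ')
    (l : J ⟶ Jt) (hl : AgPol.IsLambda J Jt φ Θ l) (l' : J' ⟶ Jt') (hl' : AgPol.IsLambda J' Jt' φ' Θ' l') :
    ∃ (e : J ≅ J') (_ : IsMonHom e.hom) (et : Jt' ⟶ Jt) (_ : IsMonHom et), IsIso et ∧
      AbDual.IsTranspose e.hom φ φ' et ∧ l = e.hom ≫ l' ≫ et := by
  obtain ⟨β, hβ, ν, hν⟩ := K507.ThetaIso.exists_iso hdim hdim' α hJ hJ' g hg hg' hg1 N hN hNdeg N' hN' hNdeg'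
  obtain ⟨et, m1, m2, het⟩ := exists_transpose hD hD' (bijective_XTproj J.hom) (bijective_XTproj J'.hom) β
  refine ⟨β, hβ, et, m1, m2, het, ?_⟩
  -- the translation as an isomorphism
  let τ : J' ≅ J' := ⟨Jac.transl J' ν, Jac.transl J' ν⁻¹, K532.Theta1.transl_transl ν, K532.Theta1.transl_transl' ν⟩
  have h1 : mk Θ hΘ.1 = pull (β ≪≫ τ).hom.left (mk Θ' hΘ'.1) := mk_theta_pull hΘ hΘ' (β ≪≫ τ) hν
  have h2 : (β ≪≫ τ).hom.left = β.hom.left ≫ (Jac.transl J' ν).left := rfl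
  rw [(isLambda_iff φ hΘ.1 l).1 hl, (isLambda_iff φ' hΘ'.1 l').1 hl', h1, h2, pull_comp]
  rw [← K732.PullLam.hom_pull hD' β.hom het]
  have h3 : hom φ' (pull (Jac.transl J' ν).left (mk Θ' hΘ'.1)) = hom φ' (mk Θ' hΘ'.1) := by
    rw [hom, hom, mumCl_transl]
  rw [h3]

end main

end K507.LamIso
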