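import Groth.Agent.AgPol.K507.LamIso
import Groth.Agent.JacVar.K532.ThetaH0
import Groth.Agent.AbVar.K512.PhiSurj

/-!
# Torelli: an isomorphism of the canonically polarised Jacobians comes from an isomorphism of curves

* `torelli`: `K531.TorMain.main` without Abel maps in the hypotheses;
* `nv_eq`: two nonzero sections of an invertible module with `h⁰ = 1` have the same locus of zeros;
* `preimage_eq`: `t_x^* Θ ≅ e^* Θ'` implies the equality of the theta loci;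
* `exists_curve_iso`.
-/

set_option autoImplicit false
set_option linter.unusedSectionVars false
universe u
open CategoryTheory CategoryTheory.Limits AlgebraicGeometry MonoidalCategory CartesianMonoidalCategory
open scoped MonObj

namespace K507.MpTor

open Groth.Agent Groth.Agent.Grpsch.PicGrp Groth.Agent.Fga.RigGrp Groth.Agent.Sga7.H732.Hedge
open Groth.Agent.Sga7.H732 K532.UnitBase K532.CurvePic K532.CurvePts K532.Dict Groth.Agent.Fga.JacSum
open Groth.Agent.Fga.JacFactor K532.Setup K532.KPts K532.Wr K532.MultPts K532.Theta1 K532 K531.Fams K531.Martens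
open K531.ThetaLoc K531.Torelli K531.TorMain

/-- Torelli's theorem, without Abel maps in the hypotheses. -/
theorem torelli' (k : Type u) [Field k] [IsAlgClosed k]
    (C : Scheme.{u}) [C.Over (Spec (CommRingCat.of k))]
    [IsProper (C ↘ Spec (CommRingCat.of k))] [Smooth (C ↘ Spec (CommRingCat.of k))] [GeometricallyConnected (C ↘ Spec (CommRingCat.of k))]
    (hdim : topologicalKrullDim ↥C = 1)
    (C' : Scheme.{u}) [C'.Over (Spec (CommRingCat.of k))]
    [IsProper (C' ↘ Spec (CommRingCat.of k))] [Smooth (C' ↘ Spec (CommRingCat.of k))] [GeometricallyConnected (C' ↘ Spec (CommRingCat.of k))]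
    (hdim' : topologicalKrullDim ↥C' = 1)
    (g : ℕ) (hg : Curv2.genus k C = g) (hg' : Curv2.genus k C' = g) (hg2 : 2 ≤ g)
    (J : Over (Spec (CommRingCat.of k))) [GrpObj J] [IsCommMonObj J]
    (ψ : (ModFun.PicDeg (C ↘ Spec (CommRingCat.of k)) 0).Hom ⊤ J) (hJ : Jac.IsJacobian (C ↘ Spec (CommRingCat.of k)) ⊤ J ψ)
    (J' : Over (Spec (CommRingCat.of k))) [GrpObj J'] [IsCommMonObj J']
    (ψ' : (ModFun.PicDeg (C' ↘ Spec (CommRingCat.of k)) 0).Hom ⊤ J') (hJ' : Jac.IsJacobian (C' ↘ Spec (CommRingCat.of k)) ⊤ J' ψ')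
    (N : C.Modules) (hN : PicF.IsInvertible N) (hNdeg : Curv2.deg k C N 1 = (g : ℤ) - 1)
    (N' : C'.Modules) (hN' : PicF.IsInvertible N') (hNdeg' : Curv2.deg k C' N' 1 = (g : ℤ) - 1)
    (β : J ≅ J') [IsMonHom β.hom] (c₀ : 𝟙_ (Over (Spec (CommRingCat.of k))) ⟶ J')
    (hβ : β.hom.left.base '' Jac.thetaLocus (C ↘ Spec (CommRingCat.of k)) 0 ψ N =
      (Jac.transl J' c₀).left.base ⁻¹' Jac.thetaLocus (C' ↘ Spec (CommRingCat.of k)) 0 ψ' N') :
    Nonempty (Over.mk (C ↘ Spec (CommRingCat.of k)) ≅ Over.mk (C' ↘ Spec (CommRingCat.of k))) := by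
  have hX := K531.H1Drop.isCurve_of k C hdim
  have hX' := K531.H1Drop.isCurve_of k C' hdim'
  have hint := hX.integral
  have hint' := hX'.integral
  obtain ⟨x, -⟩ := exists_kpt hX (⊤ : C.Opens) ⟨genericPoint C, trivial⟩
  obtain ⟨x', -⟩ := exists_kpt hX' (⊤ : C'.Opens) ⟨genericPoint C', trivial⟩
  set σ := x.1 with hσdef
  have hσ : σ ≫ (C ↘ Spec (CommRingCat.of k)) = 𝟙 _ := x.2
  set σ' := x'.1 with hσdef'
  have hσ' : σ' ≫ (C' ↘ Spec (CommRingCat.of k)) = 𝟙 _ := x'.2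
  have hrel : SmoothOfRelativeDimension 1 (C ↘ Spec (CommRingCat.of k)) := Groth.Agent.Fga.JacAlg.smoothOfRelDim hX.curve
  have hrel' : SmoothOfRelativeDimension 1 (C' ↘ Spec (CommRingCat.of k)) :=
    Groth.Agent.Fga.JacAlg.smoothOfRelDim hX'.curve
  have hGI := K532.Base.geometricallyIntegral (C ↘ Spec (CommRingCat.of k))
  obtain ⟨ξ, h, hc, hp, -⟩ := K532.Setup.exists_isJac Groth.Agent.Sga7.H780.JK.jk hdim σ hσ hJ
  obtain ⟨ξ', h', hc', hp', -⟩ := K532.Setup.exists_isJac Groth.Agent.Sga7.H780.JK.jk hdim' σ' hσ' hJ'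
  obtain ⟨j, hj⟩ := Abel.exists_abel h hX.curve
  obtain ⟨j', hj'⟩ := Abel.exists_abel h' hX'.curve
  have hA : IsAbel h j := hj
  have hA' : IsAbel h' j' := hj'
  have hmon : IsMonHom β.symm.hom := inferInstanceAs (IsMonHom β.inv)
  have h₂ := Fine.isJac_of_iso h β.symm
  have hA₂ : IsAbel h₂ (j ≫ β.hom) := by
    intro T z
    have h1 := hA T z
    rw [Abel.cls_apply] at h1 ⊢
    rw [← pull_comp, ← XTmap_comp]
    have h2 : (Abel.ptHom z ≫ j ≫ β.hom) ≫ β.symm.hom = Abel.ptHom z ≫ j := by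
      rw [Category.assoc, Category.assoc, Iso.symm_hom, Iso.hom_inv_id, Category.comp_id]
    rw [h2]
    exact h1
  have hkcl : ∀ b : 𝟙_ (Over (Spec (CommRingCat.of k))) ⟶ J', kcl h₂ b = kcl h (b ≫ β.inv) := by
    intro b
    rw [kcl_apply, kcl_apply, Abel.cls_apply, Abel.cls_apply, ← pull_comp (PicF.XTmap _ _), ← XTmap_comp]
    rfl
  subst hg
  have hdN : deg k C (mk N hN) = (gen k C : ℤ) - 1 := by rw [deg_mk k C hdim]; exact hNdeg
  have hdN' : deg k C' (mk N' hN') = (gen k C' : ℤ) - 1 := by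
    rw [deg_mk k C' hdim', hNdeg', ← hg']
  have hg1 : 1 ≤ gen k C := by change 1 ≤ Curv2.genus k C; omega
  have hg1' : 1 ≤ gen k C' := by change 1 ≤ Curv2.genus k C'; omega
  -- comparison of the two theta loci on rational points
  have key : ∀ b : 𝟙_ (Over (Spec (CommRingCat.of k))) ⟶ J',
      0 < CurvePic.h k C 0 (kcl h₂ b * mk N hN) ↔ 0 < CurvePic.h k C' 0 (kcl h' b * kcl h' c₀ * mk N' hN') := by
    intro b
    have h1 : pa b ∈ β.hom.left.base '' Jac.thetaLocus (C ↘ Spec (CommRingCat.of k)) 0 ψ N ↔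
        pa (b ≫ β.inv) ∈ Jac.thetaLocus (C ↘ Spec (CommRingCat.of k)) 0 ψ N :=
      pa_mem_image_iff β.hom β.inv β.hom_inv_id β.inv_hom_id _ b
    have h2 : pa b ∈ (Jac.transl J' c₀).left.base ⁻¹' Jac.thetaLocus (C' ↘ Spec (CommRingCat.of k)) 0 ψ' N' ↔
        pa (b * c₀) ∈ Jac.thetaLocus (C' ↘ Spec (CommRingCat.of k)) 0 ψ' N' := by
      rw [← comp_transl', pa_comp]
      exact Iff.rfl
    rw [hkcl, ← mem_theta hX h hc hA hN hdN hg1, ← h1, hβ, h2, mem_theta hX' h' hc' hA' hN' hdN' hg1', map_mul]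
  obtain ⟨m1, hm1⟩ := exists_kcl hX h₂ (c := mk N hN * pcl hX (sg hσ) ^ (gen k C - 1)) (by
    rw [deg_mul hX, deg_pow hX, deg_pcl, hdN]
    push_cast [Nat.cast_sub hg1]
    ring)
  obtain ⟨m2, hm2⟩ := exists_kcl hX' h' (c := mk N' hN' * pcl hX' (sg hσ') ^ (gen k C - 1)) (by
    have : gen k C' = gen k C := hg'
    rw [deg_mul hX', deg_pow hX', deg_pcl, hdN', this]
    push_cast [Nat.cast_sub hg1]
    ring)
  obtain ⟨a, ha, -⟩ := torelli hX hX' h₂ h' hA₂ hA' hGI hg2 hg' (Additive.ofMul (c₀ * m2 * m1⁻¹)) (by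
    intro x
    rw [mem_Wk hX' h' hA', mem_Wk hX h₂ hA₂, kcl_sub]
    have e1 : kcl h' x.toMul * (pcl hX' (sg hσ'))⁻¹ ^ (gen k C - 1) =
        kcl h' (x.toMul * c₀⁻¹ * m2⁻¹) * kcl h' c₀ * mk N' hN' := by
      rw [map_mul, map_mul, map_inv, map_inv, hm2]
      cgroup
    have e2 : kcl h₂ x.toMul * (kcl h₂ (Additive.ofMul (c₀ * m2 * m1⁻¹)).toMul)⁻¹ * (pcl hX (sg hσ))⁻¹ ^ (gen k C - 1) =
        kcl h₂ (x.toMul * c₀⁻¹ * m2⁻¹) * mk N hN := by
      have e3 : kcl h₂ (Additive.ofMul (c₀ * m2 * m1⁻¹)).toMul = kcl h₂ c₀ * kcl h₂ m2 * (kcl h₂ m1)⁻¹ := by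
        change kcl h₂ (c₀ * m2 * m1⁻¹) = _
        rw [map_mul, map_mul, map_inv]
      rw [e3, hm1, map_mul, map_mul, map_inv, map_inv]
      cgroup
    rw [e1, e2, key])
  exact ⟨Over.isoMk a ha⟩

section sections

open Groth.Agent.Fdesc.LocGen Groth.Agent.VarietyA.CurveLin K532.H0Gen

variable {k : Type u} [Field k] {X : Scheme.{u}} [X.Over (Spec (CommRingCat.of k))]

/-- Two nonzero sections of a line bundle with `h⁰ = 1`. -/
theorem nv_le {M : X.Modules} (h1 : Module.finrank k (Coh.HH X M 0) = 1)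
    (s t : Γ(M, ⊤)) (hs : s ≠ 0) (ht : t ≠ 0) : nv s ≤ nv t := by
  have hs0 : (secOf M).symm s ≠ 0 := by
    intro h0
    have h2 := congrArg (secOf M) h0
    rw [AddEquiv.apply_symm_apply, map_zero] at h2
    exact hs h2
  obtain ⟨a, ha⟩ := (finrank_eq_one_iff_of_nonzero' _ hs0).1 h1 ((secOf M).symm t)
  have h3 : sc (X ↘ Spec (CommRingCat.of k)) a • s = t := by
    have := congrArg (secOf M) ha
    rw [AddEquiv.apply_symm_apply] at this
    rw [← this]
    change _ = secOf M ((Coh.toGlobal (X ↘ Spec (CommRingCat.of k)) a) • ((secOf M).symm s))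
    rw [secOf_smul, AddEquiv.apply_symm_apply]
  have ha0 : a ≠ 0 := by
    rintro rfl
    apply ht
    rw [← h3]
    have h6 : sc (X ↘ Spec (CommRingCat.of k)) (0 : k) = 0 := map_zero (Coh.toGlobal (X ↘ Spec (CommRingCat.of k)))
    rw [h6, zero_smul]
  rw [← h3]
  exact nv_unit_smul (isUnit_sc _ ha0) s

theorem nv_eq {M : X.Modules} (h1 : Module.finrank k (Coh.HH X M 0) = 1)
    (s t : Γ(M, ⊤)) (hs : s ≠ 0) (ht : t ≠ 0) : nv s = nv t :=
  le_antisymm (nv_le h1 s t hs ht) (nv_le h1 t s ht hs)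

theorem nv_ne_bot {X : Scheme.{u}} [IsReduced X] {L : X.Modules} (hL : PicF.IsInvertible L) {t : Γ(L, ⊤)}
    (h : t ≠ 0) : nv t ≠ ⊥ := fun h' => h (eq_zero_of_nv hL t h')

theorem ne_zero_of_nv {X : Scheme.{u}} {L : X.Modules} {t : Γ(L, ⊤)} (h : nv t ≠ ⊥) : t ≠ 0 := by
  rintro rfl
  apply h
  rw [eq_bot_iff]
  intro x hx
  exact notMem_nv_zero x hx

end sections

section pre

open Groth.Agent.Fdesc.LocGen Groth.Agent.VarietyA.CurveLin K532.H0Gen

variable {k : Type u} [Field k] {X Y Z : Scheme.{u}} [Z.Over (Spec (CommRingCat.of k))]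

/-- If the pull backs of two invertible modules along isomorphisms are isomorphic with `h⁰ = 1`, the loci of sections
correspond. -/
theorem preimage_eq [IsReduced X] [IsReduced Y] (f : Z ⟶ X) [IsIso f] (f' : Z ⟶ Y) [IsIso f']
    {L : X.Modules} (hL : PicF.IsInvertible L) {L' : Y.Modules} (hL' : PicF.IsInvertible L')
    (e : (Scheme.Modules.pullback f).obj L ≅ (Scheme.Modules.pullback f').obj L')
    (h1 : Module.finrank k (Coh.HH Z ((Scheme.Modules.pullback f').obj L') 0) = 1)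
    (s : Coh.structureModule X ⟶ L) (hs : s ≠ 0) (s' : Coh.structureModule Y ⟶ L') (hs' : s' ≠ 0) :
    f ⁻¹ᵁ (CohB1.genLocus L s) = f' ⁻¹ᵁ (CohB1.genLocus L' s') := by
  have a1 : s = homOf (sec s ⊤) := (homOf_sec s).symm
  have a2 : s' = homOf (sec s' ⊤) := (homOf_sec s').symm
  have b1 : (sec s ⊤ : Γ(L, ⊤)) ≠ 0 := by
    intro h
    rw [h, homOf_zero] at a1
    exact hs a1
  have b2 : (sec s' ⊤ : Γ(L', ⊤)) ≠ 0 := by
    intro h
    rw [h, homOf_zero] at a2
    exact hs' a2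
  set t : Γ(L, ⊤) := sec s ⊤ with ht
  set t' : Γ(L', ⊤) := sec s' ⊤ with ht'
  have c1 : CohB1.genLocus L s = nv t := by rw [nv, ← a1]
  have c2 : CohB1.genLocus L' s' = nv t' := by rw [nv, ← a2]
  rw [c1, c2, ← nv_pullTop f hL, ← nv_pullTop f' hL']
  -- transport along `e`
  have d1 : nv (e.hom.app ⊤ (pullTop f t)) = nv (pullTop f t) := by
    have h2 : homOf (e.hom.app ⊤ (pullTop f t)) = homOf (pullTop f t) ≫ e.hom := by
      apply hom_ext_sec
      rw [sec_homOf, sec_comp, sec_homOf]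
      simp
    rw [nv, nv, h2]
    exact Groth.Agent.Ega2.SecCalc.genLocus_comp _ _
  have hb : ∀ {W V : Scheme.{u}} (q : W ⟶ V) [IsIso q] (U : V.Opens), U ≠ ⊥ → q ⁻¹ᵁ U ≠ ⊥ := by
    intro W V q _ U hU h
    apply hU
    rw [eq_bot_iff]
    intro x hx
    have hx2 : inv q x ∈ q ⁻¹ᵁ U := by
      change q (inv q x) ∈ U
      have : q (inv q x) = x := by
        rw [← Scheme.Hom.comp_apply, IsIso.inv_hom_id]; rfl
      rw [this]
      exact hx
    rw [h] at hx2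
    exact hx2.elim
  rw [← d1]
  refine nv_eq h1 _ _ (ne_zero_of_nv ?_) (ne_zero_of_nv ?_)
  · rw [d1, nv_pullTop f hL]
    exact hb f _ (nv_ne_bot hL b1)
  · rw [nv_pullTop f' hL']
    exact hb f' _ (nv_ne_bot hL' b2)

end pre

section main

open K732.PicZero K732.Prim K732.Dual K732.CubeSec K732.Transp K814.MumHom
open K528.MumZero (mumCl)
open Groth.Agent.Grpsch.Cube

variable {k : Type u} [Field k] [IsAlgClosed k] {C C' : Scheme.{u}} [C.Over (Spec (CommRingCat.of k))]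
  [C'.Over (Spec (CommRingCat.of k))]
  [IsProper (C ↘ Spec (CommRingCat.of k))] [Smooth (C ↘ Spec (CommRingCat.of k))]
  [GeometricallyConnected (C ↘ Spec (CommRingCat.of k))] (hdim : topologicalKrullDim ↥C = 1)
  [IsProper (C' ↘ Spec (CommRingCat.of k))] [Smooth (C' ↘ Spec (CommRingCat.of k))]
  [GeometricallyConnected (C' ↘ Spec (CommRingCat.of k))] (hdim' : topologicalKrullDim ↥C' = 1)
  {J J' : Over (Spec (CommRingCat.of k))} [GrpObj J] [GrpObj J'] [IsCommMonObj J] [IsCommMonObj J']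
  [IsProper J.hom] [Flat J.hom] [LocallyOfFinitePresentation J.hom] [GeometricallyIntegral J.hom]
  [IsProper J'.hom] [Flat J'.hom] [LocallyOfFinitePresentation J'.hom] [GeometricallyIntegral J'.hom]
  {ψ : (ModFun.PicDeg (C ↘ Spec (CommRingCat.of k)) 0).Hom ⊤ J}
  {ψ' : (ModFun.PicDeg (C' ↘ Spec (CommRingCat.of k)) 0).Hom ⊤ J'}
  {Jt Jt' : Over (Spec (CommRingCat.of k))} [GrpObj Jt] [GrpObj Jt']
  {φ : AgPol.DualMap J Jt} {φ' : AgPol.DualMap J' Jt'}
  (hD : AbDual.IsDualAV Scheme.fppfPrecoverage J Jt φ) (hD' : AbDual.IsDualAV Scheme.fppfPrecoverage J' Jt' φ')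

omit [IsAlgClosed k] [IsCommMonObj J] [Flat J.hom] [LocallyOfFinitePresentation J.hom] in
theorem mumCl_mem_rg (c : Pic J.left) : mumCl J c ∈ rg J J := by
  apply mum_mem_rg
  exact pic_spec_local k _

include hD in
/-- Classes with the same homomorphism differ by a translation invariant class. -/
theorem mumCl_eq_of_hom_eq {c d : Pic J.left} (h : hom φ c = hom φ d) : mumCl J c = mumCl J d :=
  cm_inj hD (bijective_XTproj J.hom) (mum_pz c) (mum_pz d) (mumCl_mem_rg c) (mumCl_mem_rg d) h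

theorem transl_eq_tr (x : 𝟙_ (Over (Spec (CommRingCat.of k))) ⟶ J) : Jac.transl J x = K512.Phi.tr x := rfl

omit [IsAlgClosed k] in
theorem inv_of_mumCl_eq {c d : Pic J.left} (h : mumCl J c = mumCl J d)
    (x : 𝟙_ (Over (Spec (CommRingCat.of k))) ⟶ J) : pl (K512.Phi.tr x) (c * d⁻¹) = c * d⁻¹ := by
  have h1 := congrArg (fun z => ev (𝟙 J) (toUnit J ≫ x) z) h
  simp only [ev_mum] at h1
  have e1 : pull (toUnit J ≫ x).left c = 1 := K507.LamIso.pl_const x c
  have e2 : pull (toUnit J ≫ x).left d = 1 := K507.LamIso.pl_const x d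
  have e3 : pull (𝟙 J : J ⟶ J).left c = c := pull_id c
  have e4 : pull (𝟙 J : J ⟶ J).left d = d := pull_id d
  rw [e1, e2, e3, e4, inv_one, _root_.mul_one, _root_.mul_one] at h1
  rw [map_mul, map_inv]
  change pull (𝟙 J * (toUnit J ≫ x)).left c * (pull (𝟙 J * (toUnit J ≫ x)).left d)⁻¹ = _
  rw [← div_eq_mul_inv, ← div_eq_mul_inv, div_eq_div_iff_mul_eq_mul]
  rw [← div_eq_mul_inv, ← div_eq_mul_inv, div_eq_div_iff_mul_eq_mul] at h1
  rw [h1, mul_comm]

include hdim hdim' hD hD' in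
/-- **Torelli's theorem for the canonically polarised Jacobians.** -/
theorem exists_curve_iso (hJ : Jac.IsJacobian (C ↘ Spec (CommRingCat.of k)) ⊤ J ψ)
    (hJ' : Jac.IsJacobian (C' ↘ Spec (CommRingCat.of k)) ⊤ J' ψ')
    (g : ℕ) (hg : Curv2.genus k C = g) (hg' : Curv2.genus k C' = g) (hg2 : 2 ≤ g)
    (N : C.Modules) (hN : PicF.IsInvertible N) (hNdeg : Curv2.deg k C N 1 = (g : ℤ) - 1)
    (N' : C'.Modules) (hN' : PicF.IsInvertible N') (hNdeg' : Curv2.deg k C' N' 1 = (g : ℤ) - 1)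
    (Θ : J.left.Modules) (hΘ : Jac.IsThetaLB (C ↘ Spec (CommRingCat.of k)) 0 ψ N Θ)
    (Θ' : J'.left.Modules) (hΘ' : Jac.IsThetaLB (C' ↘ Spec (CommRingCat.of k)) 0 ψ' N' Θ')
    (l : J ⟶ Jt) (hl : AgPol.IsLambda J Jt φ Θ l) (l' : J' ⟶ Jt') (hl' : AgPol.IsLambda J' Jt' φ' Θ' l')
    (e : J ≅ J') [IsMonHom e.hom] (et : Jt' ⟶ Jt) (het : AbDual.IsTranspose e.hom φ φ' et)
    (hlam : l = e.hom ≫ l' ≫ et) :
    Nonempty (Over.mk (C ↘ Spec (CommRingCat.of k)) ≅ Over.mk (C' ↘ Spec (CommRingCat.of k))) := by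
  have hE : IsIso e.hom.left := inferInstanceAs (IsIso ((Over.forget _).map e.hom))
  have h1 : hom φ (pull e.hom.left (mk Θ' hΘ'.1)) = hom φ (mk Θ hΘ.1) := by
    rw [← K732.PullLam.hom_pull hD' e.hom het, ← (isLambda_iff φ hΘ.1 l).1 hl,
      ← (isLambda_iff φ' hΘ'.1 l').1 hl', ← hlam]
  have h2 := mumCl_eq_of_hom_eq hD h1
  have hample := K532.ThetaAmple.theta_ample hdim hJ g hg (by omega) N hN hNdeg Θ hΘ
  obtain ⟨x, hx⟩ := K512.PhiSurj.exists_eq_of_isAmple Θ hample (pull e.hom.left (mk Θ' hΘ'.1) * (mk Θ hΘ.1)⁻¹)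
    (fun x => inv_of_mumCl_eq h2 x)
  have h3 : pull (Jac.transl J x).left (mk Θ hΘ.1) = pull e.hom.left (mk Θ' hΘ'.1) :=
    mul_right_cancel hx
  -- the sections
  obtain ⟨s, hs, hsθ⟩ := K532.ThetaAmple.theta_sec hdim hJ N Θ hΘ
  obtain ⟨s', hs', hsθ'⟩ := K532.ThetaAmple.theta_sec hdim' hJ' N' Θ' hΘ'
  have hh := K532.ThetaH0.theta_h0 hdim' hJ' g hg' (by omega) N' hN' hNdeg' Θ' hΘ'
  letI o1 : J.left.Over (Spec (CommRingCat.of k)) := ⟨J.hom⟩
  letI o2 : J'.left.Over (Spec (CommRingCat.of k)) := ⟨J'.hom⟩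
  have hint1 : IsIntegral J.left := GeometricallyIntegral.isIntegral_of_subsingleton J.hom
  have hint2 : IsIntegral J'.left := GeometricallyIntegral.isIntegral_of_subsingleton J'.hom
  have hh' : Module.finrank k (Coh.HH J.left ((Scheme.Modules.pullback e.hom.left).obj Θ') 0) = 1 :=
    (Groth.Agent.Dix.Cast0.finrank_HH_iso (k := k) e.hom.left (Over.w e.hom) Θ'
      (Groth.Agent.Ega2.QCohLocal.isQCoh_of_isInvertible hΘ'.1) 0).trans hh
  have hτ0 : IsIso (Jac.transl J x) :=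
    ⟨Jac.transl J x⁻¹, K532.Theta1.transl_transl x, K532.Theta1.transl_transl' x⟩
  have hτ : IsIso (Jac.transl J x).left := inferInstanceAs (IsIso ((Over.forget _).map (Jac.transl J x)))
  have hiso : Nonempty ((Scheme.Modules.pullback (Jac.transl J x).left).obj Θ ≅
      (Scheme.Modules.pullback e.hom.left).obj Θ') := by
    rw [pull_mk, pull_mk] at h3
    exact (mk_eq_iff _ _).1 h3
  obtain ⟨iM⟩ := hiso
  have h4 := preimage_eq (k := k) (Jac.transl J x).left e.hom.left hΘ.1 hΘ'.1 iM hh' s hs s' hs'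
  have h5 : (Jac.transl J x).left.base ⁻¹' Jac.thetaLocus (C ↘ Spec (CommRingCat.of k)) 0 ψ N =
      e.hom.left.base ⁻¹' Jac.thetaLocus (C' ↘ Spec (CommRingCat.of k)) 0 ψ' N' := by
    rw [hsθ, hsθ', Set.preimage_compl, Set.preimage_compl]
    congr 1
    exact congrArg (fun U : J.left.Opens => (U : Set J.left)) h4
  -- e(θ) = (t_c)^{-1}(θ'), c = e(x)^{-1}
  refine torelli' k C hdim C' hdim' g hg hg' hg2 J ψ hJ J' ψ' hJ' N hN hNdeg N' hN' hNdeg' e (x ≫ e.hom)⁻¹ ?_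
  have i1 : Jac.transl J x⁻¹ ≫ e.hom = e.hom ≫ Jac.transl J' (x ≫ e.hom)⁻¹ := by
    rw [K507.LamIso.comp_transl, Jac.transl, MonObj.mul_comp, Category.id_comp, Category.assoc, GrpObj.inv_comp]
  have i2 : ∀ z : J.left, (Jac.transl J x).left ((Jac.transl J x⁻¹).left z) = z := by
    intro z
    have h6 : (Jac.transl J x⁻¹).left ≫ (Jac.transl J x).left = 𝟙 _ := by
      rw [← Over.comp_left, K532.Theta1.transl_transl' x]
      rfl
    rw [← Scheme.Hom.comp_apply, h6]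
    rfl
  have i3 : ∀ z : J.left, e.hom.left ((Jac.transl J x⁻¹).left z) =
      (Jac.transl J' (x ≫ e.hom)⁻¹).left (e.hom.left z) := by
    intro z
    have h6 := congrArg (fun w : J ⟶ J' => w.left z) i1
    exact h6
  have i4 : ∀ z : J.left, z ∈ Jac.thetaLocus (C ↘ Spec (CommRingCat.of k)) 0 ψ N ↔
      (Jac.transl J' (x ≫ e.hom)⁻¹).left (e.hom.left z) ∈
        Jac.thetaLocus (C' ↘ Spec (CommRingCat.of k)) 0 ψ' N' := by
    intro z
    have h6 : (Jac.transl J x⁻¹).left z ∈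
        (Jac.transl J x).left.base ⁻¹' Jac.thetaLocus (C ↘ Spec (CommRingCat.of k)) 0 ψ N ↔
        z ∈ Jac.thetaLocus (C ↘ Spec (CommRingCat.of k)) 0 ψ N := by
      change (Jac.transl J x).left ((Jac.transl J x⁻¹).left z) ∈
        Jac.thetaLocus (C ↘ Spec (CommRingCat.of k)) 0 ψ N ↔ z ∈ Jac.thetaLocus (C ↘ Spec (CommRingCat.of k)) 0 ψ N
      rw [i2]
    rw [← h6, h5, ← i3]
    exact Iff.rfl
  ext y
  constructor
  · rintro ⟨z, hz, rfl⟩
    exact (i4 z).1 hz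
  · intro hy
    refine ⟨e.inv.left y, (i4 _).2 ?_, ?_⟩
    · have h6 : e.hom.left (e.inv.left y) = y := by
        rw [← Scheme.Hom.comp_apply, ← Over.comp_left, e.inv_hom_id]
        rfl
      rw [h6]
      exact hy
    · change e.hom.left (e.inv.left y) = y
      rw [← Scheme.Hom.comp_apply, ← Over.comp_left, e.inv_hom_id]
      rfl

end main

end K507.MpTor
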