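import Groth.Agent.AgPol.K507.MpTor
import Groth.Agent.GIT.K610.Nodes
import Groth.Agent.AgPol.K814.AbBasic

/-!
# Torelli's theorem for Jacobian families over a geometric point

`main : K610.Mg.NodeB`: two families of the problem `AgPol.Agdn` with `d = n = 1` over a geometric point which are the
canonically polarised Jacobians of curves of genus `g ≥ 2` are isomorphic exactly when the curves are.
-/

set_option autoImplicit false
universe u
open CategoryTheory CategoryTheory.Limits AlgebraicGeometry MonoidalCategory CartesianMonoidalCategory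
open scoped MonObj

namespace K507.NodeB

theorem geomConnected {X Y : Scheme.{u}} (f : X ⟶ Y) (h : GeometricallyIrreducible f) : GeometricallyConnected f :=
  ⟨fun K _ y Z fst snd hp => by
    have h1 : IrreducibleSpace Z := h.geometrically_irreducibleSpace y fst snd hp
    change ConnectedSpace Z
    infer_instance⟩

section core

variable {Ω : Type u} [Field Ω] [IsAlgClosed Ω] {X X' : Scheme.{u}} (q : X ⟶ Spec (CommRingCat.of Ω))
  (q' : X' ⟶ Spec (CommRingCat.of Ω)) {g : ℕ}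
  {J J' Jt Jt' : Over (Spec (CommRingCat.of Ω))} [GrpObj J] [GrpObj J'] [GrpObj Jt] [GrpObj Jt']
  {φ : AgPol.DualMap J Jt} {φ' : AgPol.DualMap J' Jt'}

/-- An isomorphism of curves induces an isomorphism of the Jacobian families. -/
theorem core_mpr (hg : 2 ≤ g) (hq : ModFun.IsCurveOfGenus g q) (hq' : ModFun.IsCurveOfGenus g q')
    (hA : AgPol.IsAbSch J g) (hA' : AgPol.IsAbSch J' g)
    (hD : AbDual.IsDualAV Scheme.fppfPrecoverage J Jt φ) (hD' : AbDual.IsDualAV Scheme.fppfPrecoverage J' Jt' φ')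
    {ψ : (ModFun.PicDeg q 0).Hom ⊤ J} (hJ : Jac.IsJacobian q ⊤ J ψ)
    {ψ' : (ModFun.PicDeg q' 0).Hom ⊤ J'} (hJ' : Jac.IsJacobian q' ⊤ J' ψ')
    (N : X.Modules) (hN : PicF.IsInvertible N)
    (hNdeg : letI : X.Over (Spec (CommRingCat.of Ω)) := ⟨q⟩; Curv2.deg Ω X N 1 = (g : ℤ) - 1)
    (N' : X'.Modules) (hN' : PicF.IsInvertible N')
    (hNdeg' : letI : X'.Over (Spec (CommRingCat.of Ω)) := ⟨q'⟩; Curv2.deg Ω X' N' 1 = (g : ℤ) - 1)
    (Θ : J.left.Modules) (hΘ : Jac.IsThetaLB q 0 ψ N Θ) (Θ' : J'.left.Modules) (hΘ' : Jac.IsThetaLB q' 0 ψ' N' Θ')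
    (l : J ⟶ Jt) (hl : AgPol.IsLambda J Jt φ Θ l) (l' : J' ⟶ Jt') (hl' : AgPol.IsLambda J' Jt' φ' Θ' l')
    (α : Over.mk q ≅ Over.mk q') :
    ∃ (e : J ≅ J') (_ : IsMonHom e.hom) (et : Jt' ⟶ Jt) (_ : IsMonHom et), IsIso et ∧
      AbDual.IsTranspose e.hom φ φ' et ∧ l = e.hom ≫ l' ≫ et := by
  obtain ⟨s1, p1, gi1, d1⟩ := hq
  obtain ⟨s2, p2, gi2, d2⟩ := hq'
  obtain ⟨hd1, hg1⟩ := d1 Ω (𝟙 _) X (𝟙 X) q IsPullback.of_id_fst
  obtain ⟨hd2, hg2⟩ := d2 Ω (𝟙 _) X' (𝟙 X') q' IsPullback.of_id_fst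
  have c1 := geomConnected q gi1
  have c2 := geomConnected q' gi2
  letI o1 : X.Over (Spec (CommRingCat.of Ω)) := ⟨q⟩
  letI o2 : X'.Over (Spec (CommRingCat.of Ω)) := ⟨q'⟩
  have t1 := hA.smooth
  have t2 := hA.proper
  have t3 := hA.geomConnected
  have t4 := K814.AbBasic.geometricallyIntegral J
  have t1' := hA'.smooth
  have t2' := hA'.proper
  have t3' := hA'.geomConnected
  have t4' := K814.AbBasic.geometricallyIntegral J'
  have : Smooth (X ↘ Spec (CommRingCat.of Ω)) := s1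
  have : Smooth (X' ↘ Spec (CommRingCat.of Ω)) := s2
  have : IsProper (X ↘ Spec (CommRingCat.of Ω)) := p1
  have : IsProper (X' ↘ Spec (CommRingCat.of Ω)) := p2
  have : GeometricallyConnected (X ↘ Spec (CommRingCat.of Ω)) := c1
  have : GeometricallyConnected (X' ↘ Spec (CommRingCat.of Ω)) := c2
  have h0 : IsIso α.hom := inferInstance
  obtain ⟨α', hα⟩ : ∃ α' : Over.mk (X ↘ Spec (CommRingCat.of Ω)) ⟶ Over.mk (X' ↘ Spec (CommRingCat.of Ω)),
      IsIso α' := ⟨α.hom, h0⟩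
  exact K507.LamIso.lam_iso (k := Ω) (C := X) (C' := X') hd1 hd2 α' hD hD' hJ hJ' g hg1 hg2 (by omega)
    N hN hNdeg N' hN' hNdeg' Θ hΘ Θ' hΘ' l hl l' hl'

/-- An isomorphism of the Jacobian families induces an isomorphism of curves. -/
theorem core_mp (hg : 2 ≤ g) (hq : ModFun.IsCurveOfGenus g q) (hq' : ModFun.IsCurveOfGenus g q')
    (hA : AgPol.IsAbSch J g) (hA' : AgPol.IsAbSch J' g)
    (hD : AbDual.IsDualAV Scheme.fppfPrecoverage J Jt φ) (hD' : AbDual.IsDualAV Scheme.fppfPrecoverage J' Jt' φ')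
    {ψ : (ModFun.PicDeg q 0).Hom ⊤ J} (hJ : Jac.IsJacobian q ⊤ J ψ)
    {ψ' : (ModFun.PicDeg q' 0).Hom ⊤ J'} (hJ' : Jac.IsJacobian q' ⊤ J' ψ')
    (N : X.Modules) (hN : PicF.IsInvertible N)
    (hNdeg : letI : X.Over (Spec (CommRingCat.of Ω)) := ⟨q⟩; Curv2.deg Ω X N 1 = (g : ℤ) - 1)
    (N' : X'.Modules) (hN' : PicF.IsInvertible N')
    (hNdeg' : letI : X'.Over (Spec (CommRingCat.of Ω)) := ⟨q'⟩; Curv2.deg Ω X' N' 1 = (g : ℤ) - 1)
    (Θ : J.left.Modules) (hΘ : Jac.IsThetaLB q 0 ψ N Θ) (Θ' : J'.left.Modules) (hΘ' : Jac.IsThetaLB q' 0 ψ' N' Θ')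
    (l : J ⟶ Jt) (hl : AgPol.IsLambda J Jt φ Θ l) (l' : J' ⟶ Jt') (hl' : AgPol.IsLambda J' Jt' φ' Θ' l')
    (e : J ≅ J') (he : IsMonHom e.hom) (et : Jt' ⟶ Jt) (het : AbDual.IsTranspose e.hom φ φ' et)
    (hlam : l = e.hom ≫ l' ≫ et) :
    Nonempty (Over.mk q ≅ Over.mk q') := by
  obtain ⟨s1, p1, gi1, d1⟩ := hq
  obtain ⟨s2, p2, gi2, d2⟩ := hq'
  obtain ⟨hd1, hg1⟩ := d1 Ω (𝟙 _) X (𝟙 X) q IsPullback.of_id_fst
  obtain ⟨hd2, hg2⟩ := d2 Ω (𝟙 _) X' (𝟙 X') q' IsPullback.of_id_fst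
  have c1 := geomConnected q gi1
  have c2 := geomConnected q' gi2
  letI o1 : X.Over (Spec (CommRingCat.of Ω)) := ⟨q⟩
  letI o2 : X'.Over (Spec (CommRingCat.of Ω)) := ⟨q'⟩
  have t1 := hA.smooth
  have t2 := hA.proper
  have t3 := hA.geomConnected
  have t4 := K814.AbBasic.geometricallyIntegral J
  have t5 := K814.AbBasic.isCommMonObj J
  have t1' := hA'.smooth
  have t2' := hA'.proper
  have t3' := hA'.geomConnected
  have t4' := K814.AbBasic.geometricallyIntegral J'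
  have t5' := K814.AbBasic.isCommMonObj J'
  have : Smooth (X ↘ Spec (CommRingCat.of Ω)) := s1
  have : Smooth (X' ↘ Spec (CommRingCat.of Ω)) := s2
  have : IsProper (X ↘ Spec (CommRingCat.of Ω)) := p1
  have : IsProper (X' ↘ Spec (CommRingCat.of Ω)) := p2
  have : GeometricallyConnected (X ↘ Spec (CommRingCat.of Ω)) := c1
  have : GeometricallyConnected (X' ↘ Spec (CommRingCat.of Ω)) := c2
  exact K507.MpTor.exists_curve_iso (k := Ω) (C := X) (C' := X') hd1 hd2 hD hD' hJ hJ' g hg1 hg2 hg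
    N hN hNdeg N' hN' hNdeg' Θ hΘ Θ' hΘ' l hl l' hl' e et het hlam

end core

/-- **Torelli in both directions for Jacobian families over a geometric point.** -/
theorem main : K610.Mg.NodeB.{u} := by
  intro Z g hg Ω _ _ t X X' q q' hq hq' F F' hF hF' hJ hJ'
  letI G1 : GrpObj (C := Over (Spec (CommRingCat.of Ω))) F.X := F.grp
  letI G2 : GrpObj (C := Over (Spec (CommRingCat.of Ω))) F'.X := F'.grp
  letI G3 : GrpObj (C := Over (Spec (CommRingCat.of Ω))) F.Xt := F.grpt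
  letI G4 : GrpObj (C := Over (Spec (CommRingCat.of Ω))) F'.Xt := F'.grpt
  obtain ⟨a1, a2, a3, a4, a5, a6, a7⟩ := hF
  obtain ⟨b1, b2, b3, b4, b5, b6, b7⟩ := hF'
  obtain ⟨ψ, N, Θ, j1, j2, j3, j4, j5⟩ := hJ
  obtain ⟨ψ', N', Θ', k1, k2, k3, k4, k5⟩ := hJ'
  constructor
  · rintro ⟨e, he, et, het, -, htr, hlam, -⟩
    exact core_mp q q' hg hq hq' a1 b1 a4 b4 j1 k1 N j2 j3 N' k2 k3 Θ j4 Θ' k4 F.lam j5 F'.lam k5 e he et htr hlam
  · rintro ⟨α⟩
    obtain ⟨e, he, et, hem, hiso, htr, hlam⟩ := core_mpr q q' hg hq hq' a1 b1 a4 b4 j1 k1 N j2 j3 N' k2 k3 Θ j4 Θ' k4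
      F.lam j5 F'.lam k5 α
    refine ⟨e, he, et, hem, hiso, htr, hlam, fun i => ?_⟩
    have h1 := a7.1 i
    have h2 := b7.1 i
    rw [pow_one] at h1 h2
    rw [h1, h2]
    exact MonObj.one_comp e.hom

end K507.NodeB
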