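import Groth.Agent.AgPol.K507.CurveIso
import Groth.Agent.JacVar.K531.TorMain
import Groth.Agent.Dix.Cast0

/-!
# The theta loci of two isomorphic curves

`k` algebraically closed, `α : C ⟶ C'` an isomorphism of curves, `J`, `J'` their Jacobians.

* `exists_iso`: there are an isomorphism of group schemes `β : J ≅ J'` and a rational point `ν` of `J'` such that the
  theta locus of `C` is the inverse image of the theta locus of `C'` under `β` followed by the translation by `ν`.
-/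

set_option autoImplicit false
set_option linter.unusedSectionVars false
universe u
open CategoryTheory CategoryTheory.Limits AlgebraicGeometry MonoidalCategory CartesianMonoidalCategory
open scoped MonObj

namespace K507.ThetaIso

open Groth.Agent Groth.Agent.Grpsch.PicGrp Groth.Agent.Fga.RigGrp Groth.Agent.Sga7.H732.Hedge
open Groth.Agent.Sga7.H732 K532.UnitBase K532.CurvePic K532.CurvePts K532.Dict Groth.Agent.Fga.JacSum
open Groth.Agent.Fga.JacFactor K532.Setup K532.KPts K532.Wr K532.MultPts K532.Theta1 K532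
open K507.CurveIso

section general

variable {k : Type u} [Field k] {C C' : Scheme.{u}} [C.Over (Spec (CommRingCat.of k))]
  [C'.Over (Spec (CommRingCat.of k))]
  (α : Over.mk (C ↘ Spec (CommRingCat.of k)) ⟶ Over.mk (C' ↘ Spec (CommRingCat.of k))) [IsIso α]

/-- Cohomology of classes is invariant. -/
theorem h_pull (i : ℕ) (c : Pic C') : CurvePic.h k C i (pull α.left c) = CurvePic.h k C' i c := by
  obtain ⟨M, hM, rfl⟩ := exists_mk c
  have hi : IsIso α.left := inferInstanceAs (IsIso ((Over.forget _).map α))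
  exact Groth.Agent.Dix.Cast0.finrank_HH_iso (k := k) α.left (Over.w α) M
    (Groth.Agent.Ega2.QCohLocal.isQCoh_of_isInvertible hM) i

/-- The degree of classes is invariant. -/
theorem deg_pull (hX : IsCurve k C) (hX' : IsCurve k C') (hg : gen k C' = gen k C) (c : Pic C') :
    deg k C (pull α.left c) = deg k C' c := by
  have h1 := rr hX (pull α.left c)
  have h2 := rr hX' c
  rw [h_pull, h_pull, h2, hg] at h1
  linarith

theorem ui_bm : ui (C ↘ Spec (CommRingCat.of k)) ≫ bm α (𝟙_ (Over (Spec (CommRingCat.of k)))) =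
    α.left ≫ ui (C' ↘ Spec (CommRingCat.of k)) := by
  apply pullback.hom_ext
  · rw [Category.assoc, bm_fst]
    refine (Category.assoc _ _ _).symm.trans ?_
    refine Eq.trans ?_ (Category.assoc _ _ _).symm
    rw [ui_fst, Category.id_comp]
    refine Eq.trans ?_ (congrArg (fun z => α.left ≫ z) (ui_fst (C' ↘ Spec (CommRingCat.of k)))).symm
    exact (Category.comp_id _).symm
  · rw [Category.assoc]
    refine (congrArg (fun z => ui (C ↘ Spec (CommRingCat.of k)) ≫ z)
      (bm_XTproj α (𝟙_ (Over (Spec (CommRingCat.of k)))))).trans ?_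
    refine (ui_proj _).trans ?_
    refine Eq.trans ?_ (Category.assoc _ _ _).symm
    refine Eq.trans ?_ (congrArg (fun z => α.left ≫ z) (ui_proj (C' ↘ Spec (CommRingCat.of k)))).symm
    exact (Over.w α).symm

end general

section main

variable {k : Type u} [Field k] [IsAlgClosed k] {C C' : Scheme.{u}} [C.Over (Spec (CommRingCat.of k))]
  [C'.Over (Spec (CommRingCat.of k))]
  [IsProper (C ↘ Spec (CommRingCat.of k))] [Smooth (C ↘ Spec (CommRingCat.of k))]
  [GeometricallyConnected (C ↘ Spec (CommRingCat.of k))] (hdim : topologicalKrullDim ↥C = 1)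
  [IsProper (C' ↘ Spec (CommRingCat.of k))] [Smooth (C' ↘ Spec (CommRingCat.of k))]
  [GeometricallyConnected (C' ↘ Spec (CommRingCat.of k))] (hdim' : topologicalKrullDim ↥C' = 1)
  {J J' : Over (Spec (CommRingCat.of k))} [GrpObj J] [GrpObj J']
  {ψ : (ModFun.PicDeg (C ↘ Spec (CommRingCat.of k)) 0).Hom ⊤ J}
  {ψ' : (ModFun.PicDeg (C' ↘ Spec (CommRingCat.of k)) 0).Hom ⊤ J'}
  (α : Over.mk (C ↘ Spec (CommRingCat.of k)) ⟶ Over.mk (C' ↘ Spec (CommRingCat.of k))) [IsIso α]

include hdim hdim' α in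
theorem exists_iso (hJ : Jac.IsJacobian (C ↘ Spec (CommRingCat.of k)) ⊤ J ψ)
    (hJ' : Jac.IsJacobian (C' ↘ Spec (CommRingCat.of k)) ⊤ J' ψ')
    (g : ℕ) (hg : Curv2.genus k C = g) (hg' : Curv2.genus k C' = g) (hg1 : 1 ≤ g)
    (N : C.Modules) (hN : PicF.IsInvertible N) (hNdeg : Curv2.deg k C N 1 = (g : ℤ) - 1)
    (N' : C'.Modules) (hN' : PicF.IsInvertible N') (hNdeg' : Curv2.deg k C' N' 1 = (g : ℤ) - 1) :
    ∃ (β : J ≅ J') (_ : IsMonHom β.hom) (ν : 𝟙_ (Over (Spec (CommRingCat.of k))) ⟶ J'),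
      Jac.thetaLocus (C ↘ Spec (CommRingCat.of k)) 0 ψ N =
        (β.hom ≫ Jac.transl J' ν).left.base ⁻¹' Jac.thetaLocus (C' ↘ Spec (CommRingCat.of k)) 0 ψ' N' := by
  have hXc := Base.isSmoothProperCurve (C ↘ Spec (CommRingCat.of k)) hdim
  have hXc' := Base.isSmoothProperCurve (C' ↘ Spec (CommRingCat.of k)) hdim'
  have hX := isCurve_of_isAlgClosed k C hXc
  have hX' := isCurve_of_isAlgClosed k C' hXc'
  have hs : SmoothOfRelativeDimension 1 (C ↘ Spec (CommRingCat.of k)) := Base.smoothOfRelDim _ hdim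
  have hs' : SmoothOfRelativeDimension 1 (C' ↘ Spec (CommRingCat.of k)) := Base.smoothOfRelDim _ hdim'
  have hint := hX.integral
  obtain ⟨x, -⟩ := exists_kpt hX (⊤ : C.Opens) ⟨genericPoint C, trivial⟩
  set σ := x.1 with hσdef
  have hσ : σ ≫ (C ↘ Spec (CommRingCat.of k)) = 𝟙 _ := x.2
  set σ' := σ ≫ α.left with hσ'def
  have hσ' : σ' ≫ (C' ↘ Spec (CommRingCat.of k)) = 𝟙 _ := by
    rw [hσ'def, Category.assoc]
    refine (congrArg (fun z => σ ≫ z) (Over.w α)).trans ?_
    exact hσ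
  obtain ⟨ξ', h', hψ', hp', hgi'⟩ := exists_isJac Sga7.H780.JK.jk hdim' σ' hσ' hJ'
  have h'' : IsJac (C ↘ Spec (CommRingCat.of k)) σ hσ J' (pull (bm α J') ξ') := isJac_bm α rfl h'
  obtain ⟨e, he, h1⟩ := Fine.exists_iso hdim h'' hJ
  have h : IsJac (C ↘ Spec (CommRingCat.of k)) σ hσ J
      (pull (PicF.XTmap (C ↘ Spec (CommRingCat.of k)) e.hom) (pull (bm α J') ξ')) := Fine.isJac_of_iso h'' e
  have hψ : Compat (C ↘ Spec (CommRingCat.of k)) hdim σ hσ J ψ
      (pull (PicF.XTmap (C ↘ Spec (CommRingCat.of k)) e.hom) (pull (bm α J') ξ')) := by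
    intro T L hT hL
    rw [← pull_comp, ← XTmap_comp, h1, Fine.pull_psi]
  have hp : IsProper J.hom := by
    have h2 : J.hom = e.hom.left ≫ J'.hom := (Over.w e.hom).symm
    have h3 : IsIso e.hom.left := inferInstanceAs (IsIso ((Over.forget _).map e.hom))
    rw [h2]
    infer_instance
  obtain ⟨j, hj⟩ := Abel.exists_abel h hXc
  obtain ⟨j', hj'⟩ := Abel.exists_abel h' hXc'
  have hjA : IsAbel h j := hj
  have hjA' : IsAbel h' j' := hj'
  subst hg
  have hgg : gen k C' = gen k C := hg'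
  have hdN : deg k C (mk N hN) = (gen k C : ℤ) - 1 := by rw [deg_mk k C hdim]; exact hNdeg
  have hdN' : deg k C' (mk N' hN') = (gen k C' : ℤ) - 1 := by
    rw [deg_mk k C' hdim', hNdeg', ← hg']
  have hg1' : 1 ≤ gen k C' := by rw [hgg]; exact hg1
  -- the classes of rational points
  have hkcl : ∀ a : 𝟙_ (Over (Spec (CommRingCat.of k))) ⟶ J, kcl h a = pull α.left (kcl h' (a ≫ e.hom)) := by
    intro a
    rw [kcl_apply, kcl_apply, Abel.cls_apply, Abel.cls_apply, ← pull_comp α.left, ← ui_bm,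
      pull_comp (ui _) (bm α _)]
    congr 1
    rw [← pull_comp (PicF.XTmap _ a), ← XTmap_comp]
    exact (K732.Transp.pull_bcMap_XTmap α (a ≫ e.hom) ξ').symm
  obtain ⟨P, hdP, hinv⟩ : ∃ P : Pic C', deg k C' P = deg k C (mk N hN) ∧ pull α.left P = mk N hN := by
    refine ⟨pull (inv α).left (mk N hN), deg_pull (inv α) hX' hX hgg.symm (mk N hN), ?_⟩
    rw [← pull_comp, ← Over.comp_left, IsIso.hom_inv_id]
    exact pull_id _
  obtain ⟨ν, hν⟩ := exists_kcl hX' h' (c := P * (mk N' hN')⁻¹) (by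
    rw [deg_mul hX', deg_inv hX', hdP, hdN, hdN', hgg]
    ring)
  refine ⟨e, he, ν, closed_ext isClosed_closure (isClosed_closure.preimage
    (e.hom ≫ Jac.transl J' ν).left.continuous) fun a => ?_⟩
  have h2 : pa a ∈ (e.hom ≫ Jac.transl J' ν).left.base ⁻¹'
      Jac.thetaLocus (C' ↘ Spec (CommRingCat.of k)) 0 ψ' N' ↔
      pa ((a ≫ e.hom) * ν) ∈ Jac.thetaLocus (C' ↘ Spec (CommRingCat.of k)) 0 ψ' N' := by
    rw [← comp_transl', Category.assoc, pa_comp]
    exact Iff.rfl
  have hpp : IsProper J'.hom := hp'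
  rw [h2, K531.TorMain.mem_theta hX h hψ hjA hN hdN hg1, K531.TorMain.mem_theta hX' h' hψ' hjA' hN' hdN' hg1',
    map_mul, hν]
  have h3 : kcl h' (a ≫ e.hom) * (P * (mk N' hN')⁻¹) * mk N' hN' = kcl h' (a ≫ e.hom) * P := by
    rw [_root_.mul_assoc, inv_mul_cancel_right]
  rw [h3, ← h_pull α 0 (kcl h' (a ≫ e.hom) * P), map_mul, hinv, ← hkcl]

end main

end K507.ThetaIso
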